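import Mathlib
import Cfsg.Agent.Prune
set_option linter.all false
prune_inst 0x7f00000000000000000000000000000000000000000000000000000000000000000000000000000000000000000000000000000000000000000000000000000000000000000000000000000000000000003fffffffffffffffffffffffffffbeffbdffffffff
open scoped Cfsg.Agent.FastGrp

/-!
# The `p`-part of an order polynomial at `a` and at `a ^ p` (helper885)

* `Gr p f` : for `a ≥ 2`: `f a ≠ 0`, `p ∣ f (a ^ p) → p ∣ f a`, `v_p (f a) ≤ v_p (f (a ^ p))`, and `<` if `p ∣ f a`;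
* `Gr.mul`, `Gr.one`, `gr_sub` (`a ^ i - 1`), `gr_add` (`a ^ i + 1`), `gr_prod`;
* `num` : the conclusion for `D q * |X| = q ^ N * P q`.
-/

set_option autoImplicit false

namespace Cfsg.Agent.H885.FC

/-- growth of the `p`-part under `a ↦ a ^ p` -/
def Gr (p : ℕ) (f : ℕ → ℕ) : Prop :=
  ∀ a, 2 ≤ a → f a ≠ 0 ∧ (p ∣ f (a ^ p) → p ∣ f a) ∧ (f a).factorization p ≤ (f (a ^ p)).factorization p ∧
    (p ∣ f a → (f a).factorization p < (f (a ^ p)).factorization p)

theorem two_le_pow {p a : ℕ} (hp : p ≠ 0) (ha : 2 ≤ a) : 2 ≤ a ^ p :=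
  ha.trans (Nat.le_self_pow hp a)

theorem Gr.one {p : ℕ} (hp : p.Prime) : Gr p fun _ => 1 := fun _ _ =>
  ⟨one_ne_zero, fun h => h, le_rfl, fun h => absurd (Nat.dvd_one.1 h) hp.one_lt.ne'⟩

theorem Gr.mul {p : ℕ} (hp : p.Prime) {f g : ℕ → ℕ} (hf : Gr p f) (hg : Gr p g) : Gr p fun a => f a * g a := by
  intro a ha
  obtain ⟨f1, f2, f3, f4⟩ := hf a ha
  obtain ⟨g1, g2, g3, g4⟩ := hg a ha
  have f1' := (hf _ (two_le_pow hp.ne_zero ha)).1
  have g1' := (hg _ (two_le_pow hp.ne_zero ha)).1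
  refine ⟨mul_ne_zero f1 g1, fun h => ?_, ?_, fun h => ?_⟩
  · rcases hp.dvd_mul.1 h with h | h
    · exact (f2 h).mul_right _
    · exact (g2 h).mul_left _
  · rw [Nat.factorization_mul f1 g1, Nat.factorization_mul f1' g1', Finsupp.add_apply, Finsupp.add_apply]
    omega
  · rw [Nat.factorization_mul f1 g1, Nat.factorization_mul f1' g1', Finsupp.add_apply, Finsupp.add_apply]
    rcases hp.dvd_mul.1 h with h | h
    · have := f4 h
      omega
    · have := g4 h
      omega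

theorem Gr.congr {p : ℕ} {f g : ℕ → ℕ} (hf : Gr p f) (h : ∀ a, 2 ≤ a → g a = f a) (hp : p ≠ 0) : Gr p g := by
  intro a ha
  rw [h a ha, h _ (two_le_pow hp ha)]
  exact hf a ha

theorem gr_sub {p : ℕ} (hp : p.Prime) (hp2 : p ≠ 2) {i : ℕ} (hi : 1 ≤ i) : Gr p fun a => a ^ i - 1 := by
  have := Fact.mk hp
  intro a ha
  have hb : 2 ≤ a ^ i := two_le_pow (by omega) ha
  have hb2 : 2 ≤ (a ^ i) ^ p := two_le_pow hp.ne_zero hb
  have he : (a ^ p) ^ i = (a ^ i) ^ p := by rw [← pow_mul, ← pow_mul, mul_comm]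
  have hne : a ^ i - 1 ≠ 0 := by omega
  have key : p ∣ a ^ i - 1 →
      (a ^ i - 1).factorization p < ((a ^ p) ^ i - 1).factorization p := by
    intro h
    have h1 : ¬ p ∣ a ^ i := by
      intro h2
      have h3 := (Nat.dvd_sub_iff_right (by omega : 1 ≤ a ^ i) h2).1 h
      exact hp.one_lt.ne' (Nat.dvd_one.1 h3)
    have h2 := padicValNat.pow_sub_pow (p := p) (hp.odd_of_ne_two hp2) (y := 1) (x := a ^ i) (by omega)
      h h1 (n := p) hp.ne_zero
    rw [one_pow] at h2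
    rw [he, Nat.factorization_def _ hp, Nat.factorization_def _ hp, h2, padicValNat.self hp.one_lt]
    omega
  refine ⟨hne, fun h => ?_, ?_, key⟩
  · simp only at h
    rw [he] at h
    have h1 : (((a ^ i) ^ p - 1 : ℕ) : ZMod p) = 0 := (ZMod.natCast_eq_zero_iff _ _).2 h
    rw [Nat.cast_sub (by omega), Nat.cast_pow, ZMod.pow_card, ← Nat.cast_sub (by omega)] at h1
    exact (ZMod.natCast_eq_zero_iff _ _).1 h1
  · by_cases h : p ∣ a ^ i - 1
    · exact (key h).le
    · rw [Nat.factorization_eq_zero_of_not_dvd h]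
      exact Nat.zero_le _

theorem gr_add {p : ℕ} (hp : p.Prime) (hp2 : p ≠ 2) (i : ℕ) : Gr p fun a => a ^ i + 1 := by
  have := Fact.mk hp
  intro a ha
  have he : (a ^ p) ^ i = (a ^ i) ^ p := by rw [← pow_mul, ← pow_mul, mul_comm]
  have hne : a ^ i + 1 ≠ 0 := by omega
  have key : p ∣ a ^ i + 1 →
      (a ^ i + 1).factorization p < ((a ^ p) ^ i + 1).factorization p := by
    intro h
    have h1 : ¬ p ∣ a ^ i := by
      intro h2
      have h3 := (Nat.dvd_add_right h2).1 h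
      exact hp.one_lt.ne' (Nat.dvd_one.1 h3)
    have h2 := padicValNat.pow_add_pow (p := p) (hp.odd_of_ne_two hp2) (y := 1) (x := a ^ i)
      h h1 (n := p) (hp.odd_of_ne_two hp2)
    rw [one_pow] at h2
    rw [he, Nat.factorization_def _ hp, Nat.factorization_def _ hp, h2, padicValNat.self hp.one_lt]
    omega
  refine ⟨hne, fun h => ?_, ?_, key⟩
  · simp only at h
    rw [he] at h
    have h1 : (((a ^ i) ^ p + 1 : ℕ) : ZMod p) = 0 := (ZMod.natCast_eq_zero_iff _ _).2 h
    rw [Nat.cast_add, Nat.cast_pow, ZMod.pow_card, ← Nat.cast_add] at h1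
    exact (ZMod.natCast_eq_zero_iff _ _).1 h1
  · by_cases h : p ∣ a ^ i + 1
    · exact (key h).le
    · rw [Nat.factorization_eq_zero_of_not_dvd h]
      exact Nat.zero_le _

end Cfsg.Agent.H885.FC
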